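import Groth.Agent.Nakai.HodgeNum
import Groth.Agent.Nakai.FibreDeg
import Groth.Agent.CurveRR.RatPoint
import Groth.Agent.AlmostBlow.Basic
import Groth.Agent.S1551
import Groth.Agent.S1582
import Groth.Agent.S4643
import Groth.Agent.S9816
import Groth.Agent.SmLocalST.SmoothField

/-!
The Castelnuovo–Severi form on the product of two curves with rational points.
-/

set_option autoImplicit false
set_option backward.isDefEq.respectTransparency false
set_option linter.style.haveILetI false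
set_option linter.unusedSectionVars false

universe u

open CategoryTheory CategoryTheory.Limits AlgebraicGeometry
open Groth.Agent.Nakai

noncomputable section

namespace Groth.Agent.CastSeveri

variable (k : Type u) [Field k]

/-- A negative semidefinite binary quadratic form has non-positive discriminant. -/
theorem disc_le {A B A' : ℚ} (hA : ∃ a : ℤ, A = a) (hB : ∃ b : ℤ, B = b) (hA' : ∃ a : ℤ, A' = a)
    (h : ∀ u v : ℤ, A * u * u + 2 * B * u * v + A' * v * v ≤ 0) : B ^ 2 ≤ A * A' := by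
  obtain ⟨a, rfl⟩ := hA
  obtain ⟨b, rfl⟩ := hB
  obtain ⟨a', rfl⟩ := hA'
  have h0 : (a : ℚ) ≤ 0 := by simpa using h 1 0
  have h0' : (a' : ℚ) ≤ 0 := by simpa using h 0 1
  rcases h0.lt_or_eq with hlt | he
  · have := h (-b) a
    push_cast at this
    by_contra hc
    push Not at hc
    nlinarith [mul_pos (neg_pos.2 hlt) (sub_pos.2 hc)]
  · rw [he]
    have h1 := h (b * (1 - a')) 1
    push_cast at h1
    rw [he] at h1
    by_cases hb : b = 0
    · simp [hb]
    · have hb1 : (1 : ℚ) ≤ (b : ℚ) ^ 2 := by exact_mod_cast Int.one_le_abs (pow_ne_zero 2 hb) |>.trans (le_of_eq (abs_of_nonneg (sq_nonneg b)))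
      nlinarith [mul_le_mul_of_nonneg_right hb1 (show (0 : ℚ) ≤ 1 - a' by linarith)]

/-- Rational points on smooth curves are effective Cartier. -/
theorem isEffCartier_point {C : Scheme.{u}} [C.Over (Spec (CommRingCat.of k))] [IsIntegral C]
    [IsProper (C ↘ Spec (CommRingCat.of k))] [Smooth (C ↘ Spec (CommRingCat.of k))] (hC : topologicalKrullDim C = 1)
    (x : Spec (CommRingCat.of k) ⟶ C) [IsClosedImmersion x] (hx : x ≫ (C ↘ Spec (CommRingCat.of k)) = 𝟙 _) :
    BlowUp.IsEffCartierIdeal x.ker := by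
  haveI := CurveRR.isNoetherian_of_proper k C
  haveI : Subsingleton (Spec (CommRingCat.of k)) := inferInstanceAs (Subsingleton (PrimeSpectrum k))
  let o : Spec (CommRingCat.of k) := IsLocalRing.closedPoint k
  have hr : Set.range x = {x o} := by
    ext w
    constructor
    · rintro ⟨p, rfl⟩
      rw [Subsingleton.elim p o]; rfl
    · rintro rfl
      exact ⟨o, rfl⟩
  have hP : IsClosed ({x o} : Set C) := hr ▸ x.isClosedEmbedding.isClosed_range
  have hk : x.ker = Scheme.IdealSheafData.vanishingIdeal ⟨{x o}, hP⟩ := by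
    rw [ker_eq_vanishingIdeal x]
    refine congrArg _ (TopologicalSpace.Closeds.ext ?_)
    rw [Scheme.Hom.support_ker, hr]
    exact hP.closure_eq
  rw [hk]
  exact (Groth.Agent.S8914.result _).1 (CurveRR.isInvertible_pointIdeal hC.le hP
    (CurveRR.genericPoint_ne_of_closed (k := k) hC hP)
    (Groth.Agent.SmLocalST.isRegularLocalRing_stalk_of_smooth_field (C ↘ Spec (CommRingCat.of k)) _))

/-- Degree on a curve of the pullback of the ideal module of a rational point along the identity. -/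
theorem deg_ratPoint {C : Scheme.{u}} [C.Over (Spec (CommRingCat.of k))]
    [IsProper (C ↘ Spec (CommRingCat.of k))] (hC : topologicalKrullDim C ≤ 1)
    (x : Spec (CommRingCat.of k) ⟶ C) (hx : x ≫ (C ↘ Spec (CommRingCat.of k)) = 𝟙 _) :
    Curv2.deg k C (ClSub.idealMod x.ker) 1 = -1 := by
  haveI : IsClosedImmersion (x ≫ (C ↘ Spec (CommRingCat.of k))) := by rw [hx]; infer_instance
  haveI : IsClosedImmersion x := IsClosedImmersion.of_comp x (C ↘ Spec (CommRingCat.of k))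
  haveI : Subsingleton (Spec (CommRingCat.of k)) := inferInstanceAs (Subsingleton (PrimeSpectrum k))
  let o : Spec (CommRingCat.of k) := IsLocalRing.closedPoint k
  have hr : Set.range x = {x o} := by
    ext w
    constructor
    · rintro ⟨p, rfl⟩
      rw [Subsingleton.elim p o]; rfl
    · rintro rfl
      exact ⟨o, rfl⟩
  have hP : IsClosed ({x o} : Set C) := hr ▸ x.isClosedEmbedding.isClosed_range
  have hk : x.ker = Scheme.IdealSheafData.vanishingIdeal ⟨{x o}, hP⟩ := by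
    rw [ker_eq_vanishingIdeal x]
    refine congrArg _ (TopologicalSpace.Closeds.ext ?_)
    rw [Scheme.Hom.support_ker, hr]
    exact hP.closure_eq
  have h := CurveRR.euler_ratPointIdeal (k := k) hP x hx (fun p => congrArg x (Subsingleton.elim p o))
    (L := Coh.structureModule C) TMul.isInvertible_structureModule
  rw [CurveRR.euler_eq_of_iso (TMul.commIso _ _ ≪≫ TMul.leftUnitIso _), ← hk] at h
  simp only [Curv2.deg, h]
  omega

variable {C₁ C₂ : Scheme.{u}} (f₁ : C₁ ⟶ Spec (CommRingCat.of k)) (f₂ : C₂ ⟶ Spec (CommRingCat.of k))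

/-- The classes of the two fibres and their intersection numbers. -/
theorem exists_classes [IsAlgClosed k] [IsProper f₁] [Smooth f₁] [IsIntegral C₁] (hd₁ : topologicalKrullDim C₁ = 1)
    [IsProper f₂] [Smooth f₂] [IsIntegral C₂] (hd₂ : topologicalKrullDim C₂ = 1)
    (x : Spec (CommRingCat.of k) ⟶ C₁) (hx : x ≫ f₁ = 𝟙 _)
    (y : Spec (CommRingCat.of k) ⟶ C₂) (hy : y ≫ f₂ = 𝟙 _)
    (i₁ : C₁ ⟶ pullback f₁ f₂) (hi₁ : i₁ ≫ pullback.fst f₁ f₂ = 𝟙 C₁ ∧ i₁ ≫ pullback.snd f₁ f₂ = f₁ ≫ y)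
    (i₂ : C₂ ⟶ pullback f₁ f₂) (hi₂ : i₂ ≫ pullback.snd f₁ f₂ = 𝟙 C₂ ∧ i₂ ≫ pullback.fst f₁ f₂ = f₂ ≫ x) :
    letI : (pullback f₁ f₂).Over (Spec (CommRingCat.of k)) := ⟨pullback.fst f₁ f₂ ≫ f₁⟩
    ∃ (_ : IsProper (pullback f₁ f₂ ↘ Spec (CommRingCat.of k))) (_ : IsIntegral (pullback f₁ f₂))
      (A E₁ E₂ : (pullback f₁ f₂).Modules),
      topologicalKrullDim ↥(pullback f₁ f₂) = 2 ∧ CohB1.IsAmple A ∧ PicF.IsInvertible E₁ ∧ PicF.IsInvertible E₂ ∧
      inter k E₁ E₁ = 0 ∧ inter k E₂ E₂ = 0 ∧ inter k E₁ E₂ = 1 ∧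
      ∀ L M : (pullback f₁ f₂).Modules, PicF.IsInvertible L →
        Nonempty (CohB1.tensorMod L M ≅ Coh.structureModule _) →
        (inter k E₁ M = (@Curv2.deg k _ C₁ ⟨f₁⟩ ((Scheme.Modules.pullback i₁).obj L) 1 : ℚ)) ∧
        (inter k E₂ M = (@Curv2.deg k _ C₂ ⟨f₂⟩ ((Scheme.Modules.pullback i₂).obj L) 1 : ℚ)) := by
  let p₁ := pullback.fst f₁ f₂
  let p₂ := pullback.snd f₁ f₂
  letI : (pullback f₁ f₂).Over (Spec (CommRingCat.of k)) := ⟨p₁ ≫ f₁⟩
  letI : C₁.Over (Spec (CommRingCat.of k)) := ⟨f₁⟩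
  letI : C₂.Over (Spec (CommRingCat.of k)) := ⟨f₂⟩
  haveI : IsProper p₁ := MorphismProperty.pullback_fst _ _ inferInstance
  haveI : IsProper p₂ := MorphismProperty.pullback_snd _ _ inferInstance
  haveI : Smooth p₁ := MorphismProperty.pullback_fst _ _ inferInstance
  haveI hproper : IsProper (pullback f₁ f₂ ↘ Spec (CommRingCat.of k)) := inferInstanceAs (IsProper (p₁ ≫ f₁))
  haveI : Smooth (pullback f₁ f₂ ↘ Spec (CommRingCat.of k)) := inferInstanceAs (Smooth (p₁ ≫ f₁))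
  haveI : IsProper (C₁ ↘ Spec (CommRingCat.of k)) := ‹IsProper f₁›
  haveI : IsProper (C₂ ↘ Spec (CommRingCat.of k)) := ‹IsProper f₂›
  haveI hint : IsIntegral (pullback f₁ f₂) := Groth.Agent.S1582.result k C₁ C₂ f₁ f₂
  have hdim : topologicalKrullDim ↥(pullback f₁ f₂) = 2 := by
    rw [Groth.Agent.S4643.result f₁ f₂, hd₁, hd₂]; rfl
  have hd : topologicalKrullDim ↥(pullback f₁ f₂) ≤ ((2 : ℕ) : WithBot ℕ∞) := hdim.le
  haveI := CurveRR.isNoetherian_of_proper k C₁
  haveI := CurveRR.isNoetherian_of_proper k C₂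
  haveI : C₁.IsSeparated := ⟨by
    rw [show terminal.from C₁ = f₁ ≫ terminal.from _ from terminal.hom_ext _ _]; infer_instance⟩
  haveI : C₂.IsSeparated := ⟨by
    rw [show terminal.from C₂ = f₂ ≫ terminal.from _ from terminal.hom_ext _ _]; infer_instance⟩
  obtain ⟨A₁, hA₁⟩ := Groth.Agent.S1551.result C₁ hd₁
  obtain ⟨A₂, hA₂⟩ := Groth.Agent.S1551.result C₂ hd₂
  have hA := Groth.Agent.S9816.result f₁ f₂ A₁ A₂ hA₁ hA₂
  haveI : IsClosedImmersion (i₁ ≫ p₁) := by rw [hi₁.1]; infer_instance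
  haveI : IsClosedImmersion i₁ := IsClosedImmersion.of_comp i₁ p₁
  haveI : IsClosedImmersion (i₂ ≫ p₂) := by rw [hi₂.1]; infer_instance
  haveI : IsClosedImmersion i₂ := IsClosedImmersion.of_comp i₂ p₂
  haveI : IsClosedImmersion (x ≫ f₁) := by rw [hx]; infer_instance
  haveI : IsClosedImmersion x := IsClosedImmersion.of_comp x f₁
  haveI : IsClosedImmersion (y ≫ f₂) := by rw [hy]; infer_instance
  haveI : IsClosedImmersion y := IsClosedImmersion.of_comp y f₂
  have hc₁ := Intersect.isEffCartier_curve k hdim i₁ hd₁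
  have hc₂ := Intersect.isEffCartier_curve k hdim i₂ hd₂
  have hI₁ : PicF.IsInvertible (ClSub.idealMod i₁.ker) := (Groth.Agent.S8914.result _).2 hc₁
  have hI₂ : PicF.IsInvertible (ClSub.idealMod i₂.ker) := (Groth.Agent.S8914.result _).2 hc₂
  have sq₁ : IsPullback i₁ f₁ p₂ y := by
    refine IsPullback.of_right ?_ hi₁.2 (IsPullback.of_hasPullback f₁ f₂)
    rw [hi₁.1, hy]
    exact IsPullback.of_id_fst
  have sq₂ : IsPullback i₂ f₂ p₁ x := by
    refine IsPullback.of_right ?_ hi₂.2 (IsPullback.of_hasPullback f₁ f₂).flip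
    rw [hi₂.1, hx]
    exact IsPullback.of_id_fst
  have hk₁ : i₁.ker = y.ker.comap p₂ := AlmostBlow.ker_of_isPullback sq₁.flip
  have hk₂ : i₂.ker = x.ker.comap p₁ := AlmostBlow.ker_of_isPullback sq₂.flip
  haveI : Smooth (C₁ ↘ Spec (CommRingCat.of k)) := ‹Smooth f₁›
  haveI : Smooth (C₂ ↘ Spec (CommRingCat.of k)) := ‹Smooth f₂›
  have hy' : BlowUp.IsEffCartierIdeal y.ker := isEffCartier_point k hd₂ y hy
  have hx' : BlowUp.IsEffCartierIdeal x.ker := isEffCartier_point k hd₁ x hx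
  haveI : Subsingleton (Spec (CommRingCat.of k)) := inferInstanceAs (Subsingleton (PrimeSpectrum k))
  -- restrictions to the fibres
  have r₁ : Nonempty ((Scheme.Modules.pullback i₁).obj (ClSub.idealMod i₁.ker) ≅ Coh.structureModule C₁) := by
    obtain ⟨e⟩ := nonempty_pullback_idealMod p₂ hy' (hk₁ ▸ hc₁)
    obtain ⟨t⟩ := nonempty_iso_one_of_subsingleton (PicLoc.isInvertible_pullback y ((Groth.Agent.S8914.result _).2 hy'))
    rw [hk₁]
    exact ⟨(Scheme.Modules.pullback i₁).mapIso e.symm ≪≫ (Scheme.Modules.pullbackComp _ _).app _ ≪≫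
      (Scheme.Modules.pullbackCongr hi₁.2).app _ ≪≫ ((Scheme.Modules.pullbackComp _ _).app _).symm ≪≫
      (Scheme.Modules.pullback f₁).mapIso t.symm ≪≫ DerPerf.pullUnitIso f₁⟩
  have r₂ : Nonempty ((Scheme.Modules.pullback i₂).obj (ClSub.idealMod i₂.ker) ≅ Coh.structureModule C₂) := by
    obtain ⟨e⟩ := nonempty_pullback_idealMod p₁ hx' (hk₂ ▸ hc₂)
    obtain ⟨t⟩ := nonempty_iso_one_of_subsingleton (PicLoc.isInvertible_pullback x ((Groth.Agent.S8914.result _).2 hx'))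
    rw [hk₂]
    exact ⟨(Scheme.Modules.pullback i₂).mapIso e.symm ≪≫ (Scheme.Modules.pullbackComp _ _).app _ ≪≫
      (Scheme.Modules.pullbackCongr hi₂.2).app _ ≪≫ ((Scheme.Modules.pullbackComp _ _).app _).symm ≪≫
      (Scheme.Modules.pullback f₂).mapIso t.symm ≪≫ DerPerf.pullUnitIso f₂⟩
  have r₁₂ : Nonempty ((Scheme.Modules.pullback i₁).obj (ClSub.idealMod i₂.ker) ≅ ClSub.idealMod x.ker) := by
    obtain ⟨e⟩ := nonempty_pullback_idealMod p₁ hx' (hk₂ ▸ hc₂)
    rw [hk₂]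
    exact ⟨(Scheme.Modules.pullback i₁).mapIso e.symm ≪≫ (Scheme.Modules.pullbackComp _ _).app _ ≪≫
      (Scheme.Modules.pullbackCongr hi₁.1).app _ ≪≫ (Scheme.Modules.pullbackId C₁).app _⟩
  -- intersection numbers with the fibres
  have hO₁ : (⟨i₁ ≫ p₁ ≫ f₁⟩ : C₁.Over (Spec (CommRingCat.of k))) = ⟨f₁⟩ := by
    congr 1
    rw [← Category.assoc, hi₁.1, Category.id_comp]
  have hO₂ : (⟨i₂ ≫ p₁ ≫ f₁⟩ : C₂.Over (Spec (CommRingCat.of k))) = ⟨f₂⟩ := by
    congr 1
    rw [pullback.condition, ← Category.assoc, hi₂.1, Category.id_comp]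
  have key₁ : ∀ L M : (pullback f₁ f₂).Modules, PicF.IsInvertible L →
      Nonempty (CohB1.tensorMod L M ≅ Coh.structureModule _) →
      inter k (ClSub.idealMod i₁.ker) M = (@Curv2.deg k _ C₁ ⟨f₁⟩ ((Scheme.Modules.pullback i₁).obj L) 1 : ℚ) := by
    intro L M hL hLM
    have h : FGA.intNum k (pullback f₁ f₂) 2 ![ClSub.idealMod i₁.ker, M] (Coh.structureModule _) =
        @Curv2.deg k _ C₁ ⟨i₁ ≫ p₁ ≫ f₁⟩ ((Scheme.Modules.pullback i₁).obj L) 1 :=
      Intersect.intNum_curve k i₁ hd₁.le hd hc₁ hL hLM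
    rw [hO₁] at h
    rw [← intNum_eq_inter k hd]
    exact_mod_cast h
  have key₂ : ∀ L M : (pullback f₁ f₂).Modules, PicF.IsInvertible L →
      Nonempty (CohB1.tensorMod L M ≅ Coh.structureModule _) →
      inter k (ClSub.idealMod i₂.ker) M = (@Curv2.deg k _ C₂ ⟨f₂⟩ ((Scheme.Modules.pullback i₂).obj L) 1 : ℚ) := by
    intro L M hL hLM
    have h : FGA.intNum k (pullback f₁ f₂) 2 ![ClSub.idealMod i₂.ker, M] (Coh.structureModule _) =
        @Curv2.deg k _ C₂ ⟨i₂ ≫ p₁ ≫ f₁⟩ ((Scheme.Modules.pullback i₂).obj L) 1 :=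
      Intersect.intNum_curve k i₂ hd₂.le hd hc₂ hL hLM
    rw [hO₂] at h
    rw [← intNum_eq_inter k hd]
    exact_mod_cast h
  obtain ⟨E₁', hE₁', hEE₁⟩ := W7Hull.exists_tensor_inverse hI₁
  obtain ⟨E₂', hE₂', hEE₂⟩ := W7Hull.exists_tensor_inverse hI₂
  have e11 := key₁ _ _ hI₁ hEE₁
  have e22 := key₂ _ _ hI₂ hEE₂
  have e12 := key₁ _ _ hI₂ hEE₂
  rw [inter_inv_right k hd hI₁ hEE₁ hI₁] at e11
  rw [inter_inv_right k hd hI₂ hEE₂ hI₂] at e22
  rw [inter_inv_right k hd hI₂ hEE₂ hI₁] at e12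
  have d11 : Curv2.deg k C₁ ((Scheme.Modules.pullback i₁).obj (ClSub.idealMod i₁.ker)) 1 = 0 := by
    simp only [Curv2.deg, CurveRR.euler_eq_of_iso r₁.some]; ring
  have d22 : Curv2.deg k C₂ ((Scheme.Modules.pullback i₂).obj (ClSub.idealMod i₂.ker)) 1 = 0 := by
    simp only [Curv2.deg, CurveRR.euler_eq_of_iso r₂.some]; ring
  have d12 : Curv2.deg k C₁ ((Scheme.Modules.pullback i₁).obj (ClSub.idealMod i₂.ker)) 1 = -1 := by
    rw [← deg_ratPoint k hd₁.le x hx]
    simp only [Curv2.deg, CurveRR.euler_eq_of_iso r₁₂.some]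
  rw [d11] at e11
  rw [d22] at e22
  rw [d12] at e12
  push_cast at e11 e22 e12
  exact ⟨hproper, hint, _, _, _, hdim, hA, hI₁, hI₂, by linarith, by linarith, by linarith,
    fun L M hL hLM => ⟨key₁ L M hL hLM, key₂ L M hL hLM⟩⟩

variable {S : Scheme.{u}} [S.Over (Spec (CommRingCat.of k))] [IsProper (S ↘ Spec (CommRingCat.of k))]

/-- The Cauchy–Schwarz inequality for the defect form. -/
theorem defect_ineq [IsIntegral S] (hdim : topologicalKrullDim S = 2) {A E₁ E₂ M M' : S.Modules}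
    (hA : CohB1.IsAmple A) (h₁ : PicF.IsInvertible E₁) (h₂ : PicF.IsInvertible E₂) (hM : PicF.IsInvertible M)
    (hM' : PicF.IsInvertible M') (e11 : inter k E₁ E₁ = 0) (e22 : inter k E₂ E₂ = 0) (e12 : inter k E₁ E₂ = 1)
    (a b a' b' : ℤ) (ha : inter k E₁ M = a) (hb : inter k E₂ M = b) (ha' : inter k E₁ M' = a') (hb' : inter k E₂ M' = b') :
    inter k M M ≤ 2 * a * b ∧
      (inter k M M' - a * b' - b * a') ^ 2 ≤ (2 * a * b - inter k M M) * (2 * a' * b' - inter k M' M') := by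
  have hd : topologicalKrullDim S ≤ ((2 : ℕ) : WithBot ℕ∞) := hdim.le
  have hcomb : ∀ u v : ℤ, (inter k M M - 2 * a * b) * u * u + 2 * (inter k M M' - a * b' - b * a') * u * v +
      (inter k M' M' - 2 * a' * b') * v * v ≤ 0 := by
    intro u v
    obtain ⟨P, hP, hPC⟩ := exists_signed k hd hM u
    obtain ⟨P', hP', hPC'⟩ := exists_signed k hd hM' v
    obtain ⟨Q, hQ, hQC⟩ := exists_signed k hd h₁ (-(u * b + v * b'))
    obtain ⟨R, hR, hRC⟩ := exists_signed k hd h₂ (-(u * a + v * a'))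
    let T := CohB1.tensorMod (CohB1.tensorMod P P') (CohB1.tensorMod Q R)
    have hT : PicF.IsInvertible T :=
      TMul.isInvertible_tensorMod (TMul.isInvertible_tensorMod hP hP') (TMul.isInvertible_tensorMod hQ hR)
    have hTC : ∀ {C : S.Modules}, PicF.IsInvertible C → inter k T C =
        u * inter k M C + v * inter k M' C - (u * b + v * b') * inter k E₁ C - (u * a + v * a') * inter k E₂ C := by
      intro C hC
      rw [inter_tensor k hd (TMul.isInvertible_tensorMod hP hP') (TMul.isInvertible_tensorMod hQ hR) hC,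
        inter_tensor k hd hP hP' hC, inter_tensor k hd hQ hR hC, hPC C hC, hPC' C hC, hQC C hC, hRC C hC]
      push_cast
      ring
    have t1 : inter k E₁ T = 0 := by
      rw [inter_comm, hTC h₁, inter_comm k M, inter_comm k M', inter_comm k E₂ E₁, ha, ha', e11, e12]; ring
    have t2 : inter k E₂ T = 0 := by
      rw [inter_comm, hTC h₂, inter_comm k M, inter_comm k M', hb, hb', e12, e22]; ring
    have hH : PicF.IsInvertible (CohB1.tensorMod E₁ E₂) := TMul.isInvertible_tensorMod h₁ h₂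
    have hpos : 0 < inter k (CohB1.tensorMod E₁ E₂) (CohB1.tensorMod E₁ E₂) := by
      rw [inter_tensor k hd h₁ h₂ hH, inter_tensor_right k hd h₁ h₂ h₁, inter_tensor_right k hd h₁ h₂ h₂,
        inter_comm k E₂ E₁, e11, e12, e22]
      norm_num
    have h := self_nonpos_of_orth k hdim hH hT hA hpos (by rw [inter_tensor k hd h₁ h₂ hT, t1, t2, add_zero])
    rw [hTC hT, t1, t2, inter_comm k M T, inter_comm k M' T, hTC hM, hTC hM', inter_comm k M' M, ha, hb, ha', hb'] at h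
    linarith
  have hi : ∀ X Y : S.Modules, ∀ z : ℤ, ∃ w : ℤ, inter k X Y - (z : ℚ) = w := fun X Y z => by
    obtain ⟨w, hw⟩ := exists_int_inter k X Y
    exact ⟨w - z, by rw [hw]; push_cast; ring⟩
  refine ⟨by have := hcomb 1 0; push_cast at this; linarith, ?_⟩
  obtain ⟨c₁, hc₁⟩ := hi M M (2 * a * b)
  obtain ⟨c₂, hc₂⟩ := hi M M' (a * b' + b * a')
  obtain ⟨c₃, hc₃⟩ := hi M' M' (2 * a' * b')
  push_cast at hc₁ hc₂ hc₃
  refine (disc_le (A := inter k M M - 2 * a * b) ⟨c₁, hc₁⟩ ⟨c₂, by rw [← hc₂]; ring⟩ ⟨c₃, hc₃⟩ hcomb).trans_eq ?_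
  ring

end Groth.Agent.CastSeveri
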